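import Cfsg.Agent.Am33.Tab
import Cfsg.Agent.Gl23.Iso
import Cfsg.Agent.M12R.Main
import Cfsg.Agent.Am43.Mod

/-!
# Am33/Mod: the two presentations define `L₃(3)` and `M₁₂`
-/

set_option autoImplicit false
set_option maxRecDepth 100000

namespace Cfsg.Agent.Am33

open Cfsg.Agent.Comp Cfsg.Agent.Core Cfsg.Agent.Golay Cfsg.Agent.Classical Subgroup

variable {G : Type*} [Group G]

theorem cardLe_A {c : ℕ → G} {R R' : List (List ℕ)} (h : Sat c (RDA ++ R ++ R')) : CardLe (gen c 10) 432 :=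
  CardLe.step (cardLe_nil c) (TCDA.index _ c (h.mono fun _ hw => List.mem_append_left _ (List.mem_append_left _ hw)))

theorem gen12 : Gen pc Spor.M12 cs12 := by
  have hin : In pc Spor.M12 cs12 := test_M12 (by decide +kernel)
  refine ⟨hin, gen_M12.2.trans ((closure_le _).2 ?_)⟩
  rintro g ⟨-, hg⟩
  have h2 : In pc (closure {g | g ∈ Spor.M12 ∧ pc g ∈ cs12}) cs12 := fun c hc =>
    let ⟨g, h1, h2⟩ := hin c hc
    ⟨g, subset_closure ⟨h1, h2 ▸ hc⟩, h2⟩
  obtain ⟨w, e⟩ : ∃ w, pc g = evalW 24 5 cs12 w := by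
    simp only [gensM12, List.mem_cons, List.not_mem_nil, or_false] at hg
    rcases hg with e | e
    · exact ⟨gw.getD 0 [], e.trans (by decide +kernel)⟩
    · exact ⟨gw.getD 1 [], e.trans (by decide +kernel)⟩
  obtain ⟨g', h3, h4⟩ := gE.in_evalW (by norm_num) h2 w
  exact pc_injective (h4.trans e.symm) ▸ h3

theorem iso_M {s : ℕ → G} (hs : Sat s (RDA ++ RB ++ RM)) (h0 : s 0 ≠ 1) : Nonempty (gen s 12 ≃* Spor.M12) := by
  obtain ⟨σ, h1, h2⟩ := gen12.exists_letters (R := RDA ++ RB ++ RM) (by decide +kernel)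
  haveI := Golay.simple_M12
  exact Golay.equiv_gen_of_cardLe (L := 12) (R := RDA ++ RB ++ RM) (by decide +kernel)
    ((cardLe_A (presS_sat 12 _)).step (TCM.index _ _ (presS_sat 12 _))) Golay.card_M12 h1 h2 hs (x := 0) (by decide) h0

open Gl23 in
theorem iso_L {s : ℕ → G} (hs : Sat s (RDA ++ RB ++ Am33.RL)) (h0 : s 0 ≠ 1) : Nonempty (gen s 12 ≃* L33) := by
  have : IsSimpleGroup L33 := SLBasic.isSimpleGroup_PSL (by simp)
  let π : Matrix.SpecialLinearGroup (Fin 3) (ZMod 3) →* L33 := QuotientGroup.mk' _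
  have h1 : Sat (fun n => ev s3 (lw.getD n [])) (RDA ++ RB ++ Am33.RL) := fun w hw => by
    rw [Am43.ev_sub]
    refine ev_s3_eq fun v => ?_
    rw [Matrix.SpecialLinearGroup.coe_one, Matrix.one_mulVec]
    exact (by decide +kernel : ∀ w ∈ RDA ++ RB ++ Am33.RL, ∀ v, apW (w.flatMap (lw.getD · [])) (vc v) = vc v) w hw v
  have h2 : gen (fun n => ev s3 (lw.getD n [])) 12 = ⊤ := top_le_iff.1 (gen_s3.ge.trans (gen_le.2 fun k hk => by
    obtain ⟨a, b⟩ := (by decide +kernel : ∀ k < 6, (∀ v, apW ((wl.getD k []).flatMap (lw.getD · [])) (vc v) =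
      get 5 (tb3 k) (vc v)) ∧ ∀ a ∈ wl.getD k [], a < 12) k hk
    rw [← ev_s3_eq (A := s3 k) fun v => (a v).trans (vc_s3 k v).symm, ← Am43.ev_sub]
    exact ev_mem fun a ha => letter_mem_gen (b a ha)))
  refine equiv_gen_of_cardLe (L := 12) (R := RDA ++ RB ++ Am33.RL) (by decide +kernel)
    ((cardLe_A (presS_sat 12 _)).step (TCL.index _ _ (presS_sat 12 _))) card_L33 (h1.map π) ?_ hs (x := 0) (by norm_num) h0
  rw [gen, ← map_genW, ← gen, h2, ← MonoidHom.range_eq_map, MonoidHom.range_eq_top]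
  exact QuotientGroup.mk'_surjective _

end Cfsg.Agent.Am33
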